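import Cfsg.Agent.Lib.Comp.Fast

set_option maxRecDepth 100000
set_option Elab.async false

namespace Cfsg.Lib.Comp.CoAm

universe u

def iv : ℕ → ℕ := (fun x => look (nat_lit 0xffef7cefae78df6d74cf2c70beeb6caeaa689e69648e28607de75c6da6585d65544d24503ce34c2ca2481c61440c1080) 6 x)

end Cfsg.Lib.Comp.CoAm
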