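import Cfsg.Agent.Lib.Comp.CoAm.TC0

set_option maxRecDepth 100000
set_option Elab.async false

namespace Cfsg.Lib.Comp.CoAm

universe u

theorem TC_n_r0_0 : eqB 98304 17 0 17 TC_n [1,2] 0 [] = true := by decide +kernel

theorem TC_n_r1_0 : eqB 98304 17 0 17 TC_n [3] 1 [] = true := by decide +kernel

theorem TC_n_r2_0 : eqB 98304 17 0 17 TC_n [4] 1 [] = true := by decide +kernel

theorem TC_n_r3_0 : eqB 98304 17 0 17 TC_n [5] 1 [] = true := by decide +kernel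

theorem TC_n_r4_0 : eqB 98304 17 0 17 TC_n [6] 1 [] = true := by decide +kernel

theorem TC_n_r5_0 : eqB 98304 17 0 17 TC_n [7] 1 [] = true := by decide +kernel

theorem TC_n_r6_0 : eqB 98304 17 0 17 TC_n [8] 1 [] = true := by decide +kernel

theorem TC_n_r7_0 : eqB 98304 17 0 17 TC_n [9] 1 [] = true := by decide +kernel

theorem TC_n_r8_0 : eqB 98304 17 0 17 TC_n [10] 1 [] = true := by decide +kernel

theorem TC_n_r9_0 : eqB 98304 17 0 17 TC_n [11] 1 [] = true := by decide +kernel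

theorem TC_n_r10_0 : eqB 98304 17 0 17 TC_n [1] 2 [] = true := by decide +kernel

theorem TC_n_r11_0 : eqB 98304 17 0 17 TC_n [3,5] 1 [] = true := by decide +kernel

theorem TC_n_r12_0 : eqB 98304 17 0 17 TC_n [4,6] 1 [] = true := by decide +kernel

theorem TC_n_r13_0 : eqB 98304 17 0 17 TC_n [5,6] 1 [] = true := by decide +kernel

theorem TC_n_r14_0 : eqB 98304 17 0 17 TC_n [3,8] 1 [] = true := by decide +kernel

theorem TC_n_r15_0 : eqB 98304 17 0 17 TC_n [4,8] 1 [] = true := by decide +kernel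

theorem TC_n_r16_0 : eqB 98304 17 0 17 TC_n [6,8] 1 [] = true := by decide +kernel

theorem TC_n_r17_0 : eqB 98304 17 0 17 TC_n [4,9] 1 [] = true := by decide +kernel

theorem TC_n_r18_0 : eqB 98304 17 0 17 TC_n [6,9] 1 [] = true := by decide +kernel

theorem TC_n_r19_0 : eqB 98304 17 0 17 TC_n [8,9] 1 [] = true := by decide +kernel

theorem TC_n_r20_0 : eqB 98304 17 0 17 TC_n [3,10] 1 [] = true := by decide +kernel

theorem TC_n_r21_0 : eqB 98304 17 0 17 TC_n [4,10] 1 [] = true := by decide +kernel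

theorem TC_n_r22_0 : eqB 98304 17 0 17 TC_n [5,10] 1 [] = true := by decide +kernel

theorem TC_n_r23_0 : eqB 98304 17 0 17 TC_n [6,10] 1 [] = true := by decide +kernel

theorem TC_n_r24_0 : eqB 98304 17 0 17 TC_n [7,10] 1 [] = true := by decide +kernel

theorem TC_n_r25_0 : eqB 98304 17 0 17 TC_n [8,10] 1 [] = true := by decide +kernel

theorem TC_n_r26_0 : eqB 98304 17 0 17 TC_n [9,10] 1 [] = true := by decide +kernel

theorem TC_n_r27_0 : eqB 98304 17 0 17 TC_n [3,11] 1 [] = true := by decide +kernel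

theorem TC_n_r28_0 : eqB 98304 17 0 17 TC_n [5,11] 1 [] = true := by decide +kernel

theorem TC_n_r29_0 : eqB 98304 17 0 17 TC_n [6,11] 1 [] = true := by decide +kernel

theorem TC_n_r30_0 : eqB 98304 17 0 17 TC_n [8,11] 1 [] = true := by decide +kernel

theorem TC_n_r31_0 : eqB 98304 17 0 17 TC_n [1,5,2,5] 0 [] = true := by decide +kernel

theorem TC_n_r32_0 : eqB 98304 17 0 17 TC_n [1,6] 1 [] = true := by decide +kernel

theorem TC_n_r33_0 : eqB 98304 17 0 17 TC_n [1,7] 1 [] = true := by decide +kernel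

theorem TC_n_r34_0 : eqB 98304 17 0 17 TC_n [1,8,2,8] 0 [] = true := by decide +kernel

theorem TC_n_r35_0 : eqB 98304 17 0 17 TC_n [1,9] 1 [] = true := by decide +kernel

theorem TC_n_r36_0 : eqB 98304 17 0 17 TC_n [1,10] 1 [] = true := by decide +kernel

theorem TC_n_r37_0 : eqB 98304 17 0 17 TC_n [1,11] 1 [] = true := by decide +kernel

theorem TC_n_r38_0 : eqB 98304 17 0 17 TC_n [1,7,11,7,11] 0 [] = true := by decide +kernel

theorem TC_n_r39_0 : eqB 98304 17 0 17 TC_n [3,6] 2 [] = true := by decide +kernel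

theorem TC_n_r40_0 : eqB 98304 17 0 17 TC_n [4,7] 2 [] = true := by decide +kernel

theorem TC_n_r41_0 : eqB 98304 17 0 17 TC_n [6,7] 2 [] = true := by decide +kernel

theorem TC_n_r42_0 : eqB 98304 17 0 17 TC_n [5,8] 2 [] = true := by decide +kernel

theorem TC_n_r43_0 : eqB 98304 17 0 17 TC_n [7,9] 2 [] = true := by decide +kernel

theorem TC_n_r44_0 : eqB 98304 17 0 17 TC_n [9,11] 2 [] = true := by decide +kernel

theorem TC_n_r45_0 : eqB 98304 17 0 17 TC_n [10,11] 2 [] = true := by decide +kernel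

theorem TC_n_r46_0 : eqB 98304 17 0 17 TC_n [1,3] 2 [] = true := by decide +kernel

theorem TC_n_r47_0 : eqB 98304 17 0 17 TC_n [1,4] 2 [] = true := by decide +kernel

theorem TC_n_r48_0 : eqB 98304 17 0 17 TC_n [3,4,9] 1 [] = true := by decide +kernel

theorem TC_n_r49_0 : eqB 98304 17 0 17 TC_n [1,1,6] 1 [] = true := by decide +kernel

theorem TC_n_r50_0 : eqB 98304 17 0 17 TC_n [1,1,7] 1 [] = true := by decide +kernel

theorem TC_n_r51_0 : eqB 98304 17 0 17 TC_n [1,1,9] 1 [] = true := by decide +kernel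

theorem TC_n_r52_0 : eqB 98304 17 0 17 TC_n [1,1,10] 1 [] = true := by decide +kernel

theorem TC_n_r53_0 : eqB 98304 17 0 17 TC_n [1,1,11] 1 [] = true := by decide +kernel

theorem TC_n_r54_0 : eqB 98304 17 0 17 TC_n [1,6,5] 1 [] = true := by decide +kernel

theorem TC_n_r55_0 : eqB 98304 17 0 17 TC_n [1,10,5] 1 [] = true := by decide +kernel

theorem TC_n_r56_0 : eqB 98304 17 0 17 TC_n [1,11,5] 1 [] = true := by decide +kernel

theorem TC_n_r57_0 : eqB 98304 17 0 17 TC_n [1,5,6] 1 [] = true := by decide +kernel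

theorem TC_n_r58_0 : eqB 98304 17 0 17 TC_n [1,11,7] 1 [] = true := by decide +kernel

theorem TC_n_r59_0 : eqB 98304 17 0 17 TC_n [1,5,10] 1 [] = true := by decide +kernel

theorem TC_n_r60_0 : eqB 98304 17 0 17 TC_n [1,5,11] 1 [] = true := by decide +kernel

theorem TC_n_r61_0 : eqB 98304 17 0 17 TC_n [3,5,10] 1 [] = true := by decide +kernel

theorem TC_n_r62_0 : eqB 98304 17 0 17 TC_n [3,5,11] 1 [] = true := by decide +kernel

theorem TC_n_r63_0 : eqB 98304 17 0 17 TC_n [4,6,9] 1 [] = true := by decide +kernel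

theorem TC_n_r64_0 : eqB 98304 17 0 17 TC_n [4,6,10] 1 [] = true := by decide +kernel

theorem TC_n_r65_0 : eqB 98304 17 0 17 TC_n [4,9,10] 1 [] = true := by decide +kernel

theorem TC_n_r66_0 : eqB 98304 17 0 17 TC_n [5,6,10] 1 [] = true := by decide +kernel

theorem TC_n_r67_0 : eqB 98304 17 0 17 TC_n [5,6,11] 1 [] = true := by decide +kernel

theorem TC_n_r68_0 : eqB 98304 17 0 17 TC_n [6,9,10] 1 [] = true := by decide +kernel

theorem TC_n_r69_0 : eqB 98304 17 0 17 TC_n [1,1,11,7,11,7] 0 [] = true := by decide +kernel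

theorem TC_n_r70_0 : eqB 98304 17 0 17 TC_n [3,4,9,3,9,4] 0 [] = true := by decide +kernel

theorem TC_n_r71_0 : eqB 98304 17 0 17 TC_n [3,5,3,6,5,6] 0 [] = true := by decide +kernel

theorem TC_n_r72_0 : eqB 98304 17 0 17 TC_n [5,6,5,9,6,9] 0 [] = true := by decide +kernel

theorem TC_n_r73_0 : eqB 98304 17 0 17 TC_n [4,6,4,11,6,11] 0 [] = true := by decide +kernel

theorem TC_n_r74_0 : eqB 98304 17 0 17 TC_n [1,9,8] 1 [] = true := by decide +kernel

theorem TC_n_r75_0 : eqB 98304 17 0 17 TC_n [1,10,8] 1 [] = true := by decide +kernel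

theorem TC_n_r76_0 : eqB 98304 17 0 17 TC_n [1,11,8] 1 [] = true := by decide +kernel

theorem TC_n_r77_0 : eqB 98304 17 0 17 TC_n [1,8,9] 1 [] = true := by decide +kernel

theorem TC_n_r78_0 : eqB 98304 17 0 17 TC_n [1,8,10] 1 [] = true := by decide +kernel

theorem TC_n_r79_0 : eqB 98304 17 0 17 TC_n [1,8,11] 1 [] = true := by decide +kernel

theorem TC_n_r80_0 : eqB 98304 17 0 17 TC_n [3,8,10] 1 [] = true := by decide +kernel

theorem TC_n_r81_0 : eqB 98304 17 0 17 TC_n [3,8,11] 1 [] = true := by decide +kernel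

theorem TC_n_r82_0 : eqB 98304 17 0 17 TC_n [4,8,9] 1 [] = true := by decide +kernel

theorem TC_n_r83_0 : eqB 98304 17 0 17 TC_n [4,8,10] 1 [] = true := by decide +kernel

theorem TC_n_r84_0 : eqB 98304 17 0 17 TC_n [8,9,10] 1 [] = true := by decide +kernel

theorem TC_n_r85_0 : eqB 98304 17 0 17 TC_n [3,8,3,9,8,9] 0 [] = true := by decide +kernel

theorem TC_n_r86_0 : eqB 98304 17 0 17 TC_n [4,8,4,11,8,11] 0 [] = true := by decide +kernel

theorem TC_n_r87_0 : eqB 98304 17 0 17 TC_n [1,8,6] 1 [] = true := by decide +kernel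

theorem TC_n_r88_0 : eqB 98304 17 0 17 TC_n [1,6,8] 1 [] = true := by decide +kernel

theorem TC_n_r89_0 : eqB 98304 17 0 17 TC_n [4,6,8] 1 [] = true := by decide +kernel

theorem TC_n_r90_0 : eqB 98304 17 0 17 TC_n [6,8,9] 1 [] = true := by decide +kernel

theorem TC_n_r91_0 : eqB 98304 17 0 17 TC_n [6,8,10] 1 [] = true := by decide +kernel

theorem TC_n_r92_0 : eqB 98304 17 0 17 TC_n [6,8,11] 1 [] = true := by decide +kernel

theorem TC_n_r93_0 : eqB 98304 17 0 17 TC_n [5,6,5,8,6,8] 0 [] = true := by decide +kernel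

theorem TC_n_r94_0 : eqB 98304 17 0 17 TC_n [3,4,3,4,7,3,7] 0 [] = true := by decide +kernel

theorem TC_n_r95_0 : eqB 98304 17 0 17 TC_n [3,7,3,7,9,3,9] 0 [] = true := by decide +kernel

theorem TC_n_r96_0 : eqB 98304 17 0 17 TC_n [1,5,7,11,7,11,5] 0 [] = true := by decide +kernel

theorem TC_n_r97_0 : eqB 98304 17 0 17 TC_n [1,6,11,7,11,7,6] 0 [] = true := by decide +kernel

theorem TC_n_r98_0 : eqB 98304 17 0 17 TC_n [1,7,3,11,3,7,11] 0 [] = true := by decide +kernel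

theorem TC_n_r99_0 : eqB 98304 17 0 17 TC_n [1,7,5,11,5,7,11] 0 [] = true := by decide +kernel

theorem TC_n_r100_0 : eqB 98304 17 0 17 TC_n [1,7,6,11,6,7,11] 0 [] = true := by decide +kernel

theorem TC_n_r101_0 : eqB 98304 17 0 17 TC_n [1,9,11,7,11,7,9] 0 [] = true := by decide +kernel

theorem TC_n_r102_0 : eqB 98304 17 0 17 TC_n [1,10,11,7,11,10,7] 0 [] = true := by decide +kernel

theorem TC_n_r103_0 : eqB 98304 17 0 17 TC_n [1,7,8,11,8,7,11] 0 [] = true := by decide +kernel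

theorem TC_n_r104_0 : eqB 98304 17 0 17 TC_n [1,8,7,11,7,11,8] 0 [] = true := by decide +kernel

theorem TC_n_r105_0 : eqB 98304 17 0 17 TC_n [5,7] 3 [] = true := by decide +kernel

theorem TC_n_r106_0 : eqB 98304 17 0 17 TC_n [7,8] 3 [] = true := by decide +kernel

theorem TC_n_r107_0 : eqB 98304 17 0 17 TC_n [5,9] 3 [] = true := by decide +kernel

theorem TC_n_r108_0 : eqB 98304 17 0 17 TC_n [4,11] 3 [] = true := by decide +kernel

theorem TC_n_r109_0 : eqB 98304 17 0 17 TC_n [3,7,8,7] 1 [] = true := by decide +kernel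

theorem TC_n_r110_0 : eqB 98304 17 0 17 TC_n [4,5,9,5] 1 [] = true := by decide +kernel

theorem TC_n_r111_0 : eqB 98304 17 0 17 TC_n [4,5,4,7] 1 [] = true := by decide +kernel

theorem TC_n_r112_0 : eqB 98304 17 0 17 TC_n [5,7,9,7] 1 [] = true := by decide +kernel

theorem TC_n_r113_0 : eqB 98304 17 0 17 TC_n [5,7,11,7] 1 [] = true := by decide +kernel

theorem TC_n_r114_0 : eqB 98304 17 0 17 TC_n [7,8,7,11] 1 [] = true := by decide +kernel

theorem TC_n_r115_0 : eqB 98304 17 0 17 TC_n [5,7,8,7] 1 [] = true := by decide +kernel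

theorem TC_n_r116_0 : eqB 98304 17 0 17 TC_n [3,4,7,4] 1 [] = true := by decide +kernel

theorem TC_n_r117_0 : eqB 98304 17 0 17 TC_n [4,7,5,7] 1 [] = true := by decide +kernel

theorem TC_n_r118_0 : eqB 98304 17 0 17 TC_n [3,7,9,7] 1 [] = true := by decide +kernel

theorem TC_n_r119_0 : eqB 98304 17 0 17 TC_n [5,9,7,9] 1 [] = true := by decide +kernel

theorem TC_n_r120_0 : eqB 98304 17 0 17 TC_n [1,1,6,5] 1 [] = true := by decide +kernel

theorem TC_n_r121_0 : eqB 98304 17 0 17 TC_n [1,1,11,5] 1 [] = true := by decide +kernel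

theorem TC_n_r122_0 : eqB 98304 17 0 17 TC_n [1,1,5,6] 1 [] = true := by decide +kernel

theorem TC_n_r123_0 : eqB 98304 17 0 17 TC_n [1,3,2,3] 1 [] = true := by decide +kernel

theorem TC_n_r124_0 : eqB 98304 17 0 17 TC_n [1,4,1,9] 1 [] = true := by decide +kernel

theorem TC_n_r125_0 : eqB 98304 17 0 17 TC_n [1,4,2,4] 1 [] = true := by decide +kernel

theorem TC_n_r126_0 : eqB 98304 17 0 17 TC_n [1,3,2,5] 1 [] = true := by decide +kernel

theorem TC_n_r127_0 : eqB 98304 17 0 17 TC_n [1,6,2,5] 1 [] = true := by decide +kernel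

theorem TC_n_r128_0 : eqB 98304 17 0 17 TC_n [1,6,1,9] 1 [] = true := by decide +kernel

theorem TC_n_r129_0 : eqB 98304 17 0 17 TC_n [1,6,1,10] 1 [] = true := by decide +kernel

theorem TC_n_r130_0 : eqB 98304 17 0 17 TC_n [1,5,2,6] 1 [] = true := by decide +kernel

theorem TC_n_r131_0 : eqB 98304 17 0 17 TC_n [1,10,9,6] 1 [] = true := by decide +kernel

theorem TC_n_r132_0 : eqB 98304 17 0 17 TC_n [1,9,10,6] 1 [] = true := by decide +kernel

theorem TC_n_r133_0 : eqB 98304 17 0 17 TC_n [1,10,6,9] 1 [] = true := by decide +kernel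

theorem TC_n_r134_0 : eqB 98304 17 0 17 TC_n [1,6,10,9] 1 [] = true := by decide +kernel

theorem TC_n_r135_0 : eqB 98304 17 0 17 TC_n [1,9,11,9] 1 [] = true := by decide +kernel

theorem TC_n_r136_0 : eqB 98304 17 0 17 TC_n [1,1,9,8] 1 [] = true := by decide +kernel

theorem TC_n_r137_0 : eqB 98304 17 0 17 TC_n [1,8,9,8] 1 [] = true := by decide +kernel

theorem TC_n_r138_0 : eqB 98304 17 0 17 TC_n [1,8,10,8] 1 [] = true := by decide +kernel

theorem TC_n_r139_0 : eqB 98304 17 0 17 TC_n [1,8,11,8] 1 [] = true := by decide +kernel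

theorem TC_n_r140_0 : eqB 98304 17 0 17 TC_n [1,1,8,6] 1 [] = true := by decide +kernel

theorem TC_n_r141_0 : eqB 98304 17 0 17 TC_n [3,4,6] 2 [] = true := by decide +kernel

theorem TC_n_r142_0 : eqB 98304 17 0 17 TC_n [4,9,11] 2 [] = true := by decide +kernel

theorem TC_n_r143_0 : eqB 98304 17 0 17 TC_n [1,4,2,3,4,11,3,4,11] 0 [] = true := by decide +kernel

theorem TC_n_r144_0 : eqB 98304 17 0 17 TC_n [5,8,7,8,5,9] 1 [] = true := by decide +kernel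

theorem TC_n_r145_0 : eqB 98304 17 0 17 TC_n [3,4,3,11,4,7,11,4,7,4,11,7,11] 0 [] = true := by decide +kernel

theorem TC_n_r146_0 : eqB 98304 17 0 17 TC_n [3,4,5,4,5,8,5,4,5,8,3,7,5,7] 0 [] = true := by decide +kernel

theorem TC_n_r147_0 : eqB 98304 17 0 17 TC_n [4,5,4,5,8,11,4,5,11,4,11,5,4,11,8] 0 [] = true := by decide +kernel

theorem TC_n_r148_0 : eqB 98304 17 0 17 TC_n [5,8,9,5,9,10,11,9,5,10,9,8,5,9,11,9] 0 [] = true := by decide +kernel

theorem TC_n_r149_0 : eqB 98304 17 0 17 TC_n [3,4,7,4,8,7,9,7,4,8,7,8,4,7,9,7,8] 0 [] = true := by decide +kernel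

theorem TC_n_r150_0 : eqB 98304 17 0 17 TC_n [1,6,3,1,9,3,1,6,3,9,2,3,9,6,3,9,2,3] 0 [] = true := by decide +kernel

theorem TC_n_r151_0 : eqB 98304 17 0 17 TC_n [3,5,7,3,5,7,3,8,5,9,10,5,3,9,8,5,3,9] 0 [] = true := by decide +kernel

theorem TC_n_r152_0 : eqB 98304 17 0 17 TC_n [1,4,5,2,4,1,5,6,7,5,6,7,5,6,7,4,5,2,4,5] 0 [] = true := by decide +kernel

theorem TC_n_r153_0 : eqB 98304 17 0 17 TC_n [4,7,4,8,7,11,9,7,8,11,4,7,4,11,8,7,9,11,7,8] 0 [] = true := by decide +kernel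

theorem TC_n_r154_0 : eqB 98304 17 0 17 TC_n [4,7,4,8,7,8,11,4,7,8,7,11,4,11,7,8,7,4,11,7,8] 0 [] = true := by decide +kernel

theorem TC_n_r155_0 : eqB 98304 17 0 17 TC_n [1,7,5,7,3,1,7,5,7,3,7,8,5,7,2,3,7,5,8,7,2,3] 0 [] = true := by decide +kernel

theorem TC_n_r156_0 : eqB 98304 17 0 17 TC_n [1,4,7,6,2,4,1,7,4,1,9,7,4,2,6,7,4,9,7,6,2,4,7,9] 0 [] = true := by decide +kernel

theorem TC_n_r157_0 : eqB 98304 17 0 17 TC_n [5,6,7,5,6,7,5,6,7,9,5,9,10,11,10,9,5,9,11,10,9,5,9,11] 0 [] = true := by decide +kernel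

theorem TC_n_r158_0 : eqB 98304 17 0 17 TC_n [4,5,7,5,8,5,4,7,8,5,7,4,5,8,7,8,5,4,7,8,5,4,5,8,7,8] 0 [] = true := by decide +kernel

theorem TC_n_rel : Rels (gp TC_n) TC_R := by
  unfold TC_R
  try simp only [apd_eq]
  intro r hr
  simp only [List.mem_append, List.mem_cons, List.not_mem_nil, or_false, or_assoc] at hr
  rcases hr with rfl | rfl | rfl | rfl | rfl | rfl | rfl | rfl | rfl | rfl | rfl | rfl | rfl | rfl | rfl | rfl | rfl | rfl | rfl | rfl | rfl | rfl | rfl | rfl | rfl | rfl | rfl | rfl | rfl | rfl | rfl | rfl | rfl | rfl | rfl | rfl | rfl | rfl | rfl | rfl | rfl | rfl | rfl | rfl | rfl | rfl | rfl | rfl | rfl | rfl | rfl | rfl | rfl | rfl | rfl | rfl | rfl | rfl | rfl | rfl | rfl | rfl | rfl | rfl | rfl | rfl | rfl | rfl | rfl | rfl | rfl | rfl | rfl | rfl | rfl | rfl | rfl | rfl | rfl | rfl | rfl | rfl | rfl | rfl | rfl | rfl | rfl | rfl | rfl | rfl | rfl | rfl | rfl | rfl | rfl | rfl | rfl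 | rfl | rfl | rfl | rfl | rfl | rfl | rfl | rfl | rfl | rfl | rfl | rfl | rfl | rfl | rfl | rfl | rfl | rfl | rfl | rfl | rfl | rfl | rfl | rfl | rfl | rfl | rfl | rfl | rfl | rfl | rfl | rfl | rfl | rfl | rfl | rfl | rfl | rfl | rfl | rfl | rfl | rfl | rfl | rfl | rfl | rfl | rfl | rfl | rfl | rfl | rfl | rfl | rfl | rfl | rfl | rfl | rfl | rfl | rfl | rfl | rfl | rfl
  · exact AgreeBits.eq (k := 17) (agree_of_eqB TC_n_ok (by norm_num) TC_n_r0_0) (by norm_num) ((fx_ev TC_n_ok.fx _).pow _) (Fx.one _)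
  · exact AgreeBits.eq (k := 17) (agree_of_eqB TC_n_ok (by norm_num) TC_n_r1_0) (by norm_num) ((fx_ev TC_n_ok.fx _).pow _) (Fx.one _)
  · exact AgreeBits.eq (k := 17) (agree_of_eqB TC_n_ok (by norm_num) TC_n_r2_0) (by norm_num) ((fx_ev TC_n_ok.fx _).pow _) (Fx.one _)
  · exact AgreeBits.eq (k := 17) (agree_of_eqB TC_n_ok (by norm_num) TC_n_r3_0) (by norm_num) ((fx_ev TC_n_ok.fx _).pow _) (Fx.one _)
  · exact AgreeBits.eq (k := 17) (agree_of_eqB TC_n_ok (by norm_num) TC_n_r4_0) (by norm_num) ((fx_ev TC_n_ok.fx _).pow _) (Fx.one _)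
  · exact AgreeBits.eq (k := 17) (agree_of_eqB TC_n_ok (by norm_num) TC_n_r5_0) (by norm_num) ((fx_ev TC_n_ok.fx _).pow _) (Fx.one _)
  · exact AgreeBits.eq (k := 17) (agree_of_eqB TC_n_ok (by norm_num) TC_n_r6_0) (by norm_num) ((fx_ev TC_n_ok.fx _).pow _) (Fx.one _)
  · exact AgreeBits.eq (k := 17) (agree_of_eqB TC_n_ok (by norm_num) TC_n_r7_0) (by norm_num) ((fx_ev TC_n_ok.fx _).pow _) (Fx.one _)
  · exact AgreeBits.eq (k := 17) (agree_of_eqB TC_n_ok (by norm_num) TC_n_r8_0) (by norm_num) ((fx_ev TC_n_ok.fx _).pow _) (Fx.one _)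
  · exact AgreeBits.eq (k := 17) (agree_of_eqB TC_n_ok (by norm_num) TC_n_r9_0) (by norm_num) ((fx_ev TC_n_ok.fx _).pow _) (Fx.one _)
  · exact AgreeBits.eq (k := 17) (agree_of_eqB TC_n_ok (by norm_num) TC_n_r10_0) (by norm_num) ((fx_ev TC_n_ok.fx _).pow _) (Fx.one _)
  · exact AgreeBits.eq (k := 17) (agree_of_eqB TC_n_ok (by norm_num) TC_n_r11_0) (by norm_num) ((fx_ev TC_n_ok.fx _).pow _) (Fx.one _)
  · exact AgreeBits.eq (k := 17) (agree_of_eqB TC_n_ok (by norm_num) TC_n_r12_0) (by norm_num) ((fx_ev TC_n_ok.fx _).pow _) (Fx.one _)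
  · exact AgreeBits.eq (k := 17) (agree_of_eqB TC_n_ok (by norm_num) TC_n_r13_0) (by norm_num) ((fx_ev TC_n_ok.fx _).pow _) (Fx.one _)
  · exact AgreeBits.eq (k := 17) (agree_of_eqB TC_n_ok (by norm_num) TC_n_r14_0) (by norm_num) ((fx_ev TC_n_ok.fx _).pow _) (Fx.one _)
  · exact AgreeBits.eq (k := 17) (agree_of_eqB TC_n_ok (by norm_num) TC_n_r15_0) (by norm_num) ((fx_ev TC_n_ok.fx _).pow _) (Fx.one _)
  · exact AgreeBits.eq (k := 17) (agree_of_eqB TC_n_ok (by norm_num) TC_n_r16_0) (by norm_num) ((fx_ev TC_n_ok.fx _).pow _) (Fx.one _)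
  · exact AgreeBits.eq (k := 17) (agree_of_eqB TC_n_ok (by norm_num) TC_n_r17_0) (by norm_num) ((fx_ev TC_n_ok.fx _).pow _) (Fx.one _)
  · exact AgreeBits.eq (k := 17) (agree_of_eqB TC_n_ok (by norm_num) TC_n_r18_0) (by norm_num) ((fx_ev TC_n_ok.fx _).pow _) (Fx.one _)
  · exact AgreeBits.eq (k := 17) (agree_of_eqB TC_n_ok (by norm_num) TC_n_r19_0) (by norm_num) ((fx_ev TC_n_ok.fx _).pow _) (Fx.one _)
  · exact AgreeBits.eq (k := 17) (agree_of_eqB TC_n_ok (by norm_num) TC_n_r20_0) (by norm_num) ((fx_ev TC_n_ok.fx _).pow _) (Fx.one _)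
  · exact AgreeBits.eq (k := 17) (agree_of_eqB TC_n_ok (by norm_num) TC_n_r21_0) (by norm_num) ((fx_ev TC_n_ok.fx _).pow _) (Fx.one _)
  · exact AgreeBits.eq (k := 17) (agree_of_eqB TC_n_ok (by norm_num) TC_n_r22_0) (by norm_num) ((fx_ev TC_n_ok.fx _).pow _) (Fx.one _)
  · exact AgreeBits.eq (k := 17) (agree_of_eqB TC_n_ok (by norm_num) TC_n_r23_0) (by norm_num) ((fx_ev TC_n_ok.fx _).pow _) (Fx.one _)
  · exact AgreeBits.eq (k := 17) (agree_of_eqB TC_n_ok (by norm_num) TC_n_r24_0) (by norm_num) ((fx_ev TC_n_ok.fx _).pow _) (Fx.one _)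
  · exact AgreeBits.eq (k := 17) (agree_of_eqB TC_n_ok (by norm_num) TC_n_r25_0) (by norm_num) ((fx_ev TC_n_ok.fx _).pow _) (Fx.one _)
  · exact AgreeBits.eq (k := 17) (agree_of_eqB TC_n_ok (by norm_num) TC_n_r26_0) (by norm_num) ((fx_ev TC_n_ok.fx _).pow _) (Fx.one _)
  · exact AgreeBits.eq (k := 17) (agree_of_eqB TC_n_ok (by norm_num) TC_n_r27_0) (by norm_num) ((fx_ev TC_n_ok.fx _).pow _) (Fx.one _)
  · exact AgreeBits.eq (k := 17) (agree_of_eqB TC_n_ok (by norm_num) TC_n_r28_0) (by norm_num) ((fx_ev TC_n_ok.fx _).pow _) (Fx.one _)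
  · exact AgreeBits.eq (k := 17) (agree_of_eqB TC_n_ok (by norm_num) TC_n_r29_0) (by norm_num) ((fx_ev TC_n_ok.fx _).pow _) (Fx.one _)
  · exact AgreeBits.eq (k := 17) (agree_of_eqB TC_n_ok (by norm_num) TC_n_r30_0) (by norm_num) ((fx_ev TC_n_ok.fx _).pow _) (Fx.one _)
  · exact AgreeBits.eq (k := 17) (agree_of_eqB TC_n_ok (by norm_num) TC_n_r31_0) (by norm_num) ((fx_ev TC_n_ok.fx _).pow _) (Fx.one _)
  · exact AgreeBits.eq (k := 17) (agree_of_eqB TC_n_ok (by norm_num) TC_n_r32_0) (by norm_num) ((fx_ev TC_n_ok.fx _).pow _) (Fx.one _)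
  · exact AgreeBits.eq (k := 17) (agree_of_eqB TC_n_ok (by norm_num) TC_n_r33_0) (by norm_num) ((fx_ev TC_n_ok.fx _).pow _) (Fx.one _)
  · exact AgreeBits.eq (k := 17) (agree_of_eqB TC_n_ok (by norm_num) TC_n_r34_0) (by norm_num) ((fx_ev TC_n_ok.fx _).pow _) (Fx.one _)
  · exact AgreeBits.eq (k := 17) (agree_of_eqB TC_n_ok (by norm_num) TC_n_r35_0) (by norm_num) ((fx_ev TC_n_ok.fx _).pow _) (Fx.one _)
  · exact AgreeBits.eq (k := 17) (agree_of_eqB TC_n_ok (by norm_num) TC_n_r36_0) (by norm_num) ((fx_ev TC_n_ok.fx _).pow _) (Fx.one _)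
  · exact AgreeBits.eq (k := 17) (agree_of_eqB TC_n_ok (by norm_num) TC_n_r37_0) (by norm_num) ((fx_ev TC_n_ok.fx _).pow _) (Fx.one _)
  · exact AgreeBits.eq (k := 17) (agree_of_eqB TC_n_ok (by norm_num) TC_n_r38_0) (by norm_num) ((fx_ev TC_n_ok.fx _).pow _) (Fx.one _)
  · exact AgreeBits.eq (k := 17) (agree_of_eqB TC_n_ok (by norm_num) TC_n_r39_0) (by norm_num) ((fx_ev TC_n_ok.fx _).pow _) (Fx.one _)
  · exact AgreeBits.eq (k := 17) (agree_of_eqB TC_n_ok (by norm_num) TC_n_r40_0) (by norm_num) ((fx_ev TC_n_ok.fx _).pow _) (Fx.one _)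
  · exact AgreeBits.eq (k := 17) (agree_of_eqB TC_n_ok (by norm_num) TC_n_r41_0) (by norm_num) ((fx_ev TC_n_ok.fx _).pow _) (Fx.one _)
  · exact AgreeBits.eq (k := 17) (agree_of_eqB TC_n_ok (by norm_num) TC_n_r42_0) (by norm_num) ((fx_ev TC_n_ok.fx _).pow _) (Fx.one _)
  · exact AgreeBits.eq (k := 17) (agree_of_eqB TC_n_ok (by norm_num) TC_n_r43_0) (by norm_num) ((fx_ev TC_n_ok.fx _).pow _) (Fx.one _)
  · exact AgreeBits.eq (k := 17) (agree_of_eqB TC_n_ok (by norm_num) TC_n_r44_0) (by norm_num) ((fx_ev TC_n_ok.fx _).pow _) (Fx.one _)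
  · exact AgreeBits.eq (k := 17) (agree_of_eqB TC_n_ok (by norm_num) TC_n_r45_0) (by norm_num) ((fx_ev TC_n_ok.fx _).pow _) (Fx.one _)
  · exact AgreeBits.eq (k := 17) (agree_of_eqB TC_n_ok (by norm_num) TC_n_r46_0) (by norm_num) ((fx_ev TC_n_ok.fx _).pow _) (Fx.one _)
  · exact AgreeBits.eq (k := 17) (agree_of_eqB TC_n_ok (by norm_num) TC_n_r47_0) (by norm_num) ((fx_ev TC_n_ok.fx _).pow _) (Fx.one _)
  · exact AgreeBits.eq (k := 17) (agree_of_eqB TC_n_ok (by norm_num) TC_n_r48_0) (by norm_num) ((fx_ev TC_n_ok.fx _).pow _) (Fx.one _)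
  · exact AgreeBits.eq (k := 17) (agree_of_eqB TC_n_ok (by norm_num) TC_n_r49_0) (by norm_num) ((fx_ev TC_n_ok.fx _).pow _) (Fx.one _)
  · exact AgreeBits.eq (k := 17) (agree_of_eqB TC_n_ok (by norm_num) TC_n_r50_0) (by norm_num) ((fx_ev TC_n_ok.fx _).pow _) (Fx.one _)
  · exact AgreeBits.eq (k := 17) (agree_of_eqB TC_n_ok (by norm_num) TC_n_r51_0) (by norm_num) ((fx_ev TC_n_ok.fx _).pow _) (Fx.one _)
  · exact AgreeBits.eq (k := 17) (agree_of_eqB TC_n_ok (by norm_num) TC_n_r52_0) (by norm_num) ((fx_ev TC_n_ok.fx _).pow _) (Fx.one _)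
  · exact AgreeBits.eq (k := 17) (agree_of_eqB TC_n_ok (by norm_num) TC_n_r53_0) (by norm_num) ((fx_ev TC_n_ok.fx _).pow _) (Fx.one _)
  · exact AgreeBits.eq (k := 17) (agree_of_eqB TC_n_ok (by norm_num) TC_n_r54_0) (by norm_num) ((fx_ev TC_n_ok.fx _).pow _) (Fx.one _)
  · exact AgreeBits.eq (k := 17) (agree_of_eqB TC_n_ok (by norm_num) TC_n_r55_0) (by norm_num) ((fx_ev TC_n_ok.fx _).pow _) (Fx.one _)
  · exact AgreeBits.eq (k := 17) (agree_of_eqB TC_n_ok (by norm_num) TC_n_r56_0) (by norm_num) ((fx_ev TC_n_ok.fx _).pow _) (Fx.one _)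
  · exact AgreeBits.eq (k := 17) (agree_of_eqB TC_n_ok (by norm_num) TC_n_r57_0) (by norm_num) ((fx_ev TC_n_ok.fx _).pow _) (Fx.one _)
  · exact AgreeBits.eq (k := 17) (agree_of_eqB TC_n_ok (by norm_num) TC_n_r58_0) (by norm_num) ((fx_ev TC_n_ok.fx _).pow _) (Fx.one _)
  · exact AgreeBits.eq (k := 17) (agree_of_eqB TC_n_ok (by norm_num) TC_n_r59_0) (by norm_num) ((fx_ev TC_n_ok.fx _).pow _) (Fx.one _)
  · exact AgreeBits.eq (k := 17) (agree_of_eqB TC_n_ok (by norm_num) TC_n_r60_0) (by norm_num) ((fx_ev TC_n_ok.fx _).pow _) (Fx.one _)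
  · exact AgreeBits.eq (k := 17) (agree_of_eqB TC_n_ok (by norm_num) TC_n_r61_0) (by norm_num) ((fx_ev TC_n_ok.fx _).pow _) (Fx.one _)
  · exact AgreeBits.eq (k := 17) (agree_of_eqB TC_n_ok (by norm_num) TC_n_r62_0) (by norm_num) ((fx_ev TC_n_ok.fx _).pow _) (Fx.one _)
  · exact AgreeBits.eq (k := 17) (agree_of_eqB TC_n_ok (by norm_num) TC_n_r63_0) (by norm_num) ((fx_ev TC_n_ok.fx _).pow _) (Fx.one _)
  · exact AgreeBits.eq (k := 17) (agree_of_eqB TC_n_ok (by norm_num) TC_n_r64_0) (by norm_num) ((fx_ev TC_n_ok.fx _).pow _) (Fx.one _)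
  · exact AgreeBits.eq (k := 17) (agree_of_eqB TC_n_ok (by norm_num) TC_n_r65_0) (by norm_num) ((fx_ev TC_n_ok.fx _).pow _) (Fx.one _)
  · exact AgreeBits.eq (k := 17) (agree_of_eqB TC_n_ok (by norm_num) TC_n_r66_0) (by norm_num) ((fx_ev TC_n_ok.fx _).pow _) (Fx.one _)
  · exact AgreeBits.eq (k := 17) (agree_of_eqB TC_n_ok (by norm_num) TC_n_r67_0) (by norm_num) ((fx_ev TC_n_ok.fx _).pow _) (Fx.one _)
  · exact AgreeBits.eq (k := 17) (agree_of_eqB TC_n_ok (by norm_num) TC_n_r68_0) (by norm_num) ((fx_ev TC_n_ok.fx _).pow _) (Fx.one _)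
  · exact AgreeBits.eq (k := 17) (agree_of_eqB TC_n_ok (by norm_num) TC_n_r69_0) (by norm_num) ((fx_ev TC_n_ok.fx _).pow _) (Fx.one _)
  · exact AgreeBits.eq (k := 17) (agree_of_eqB TC_n_ok (by norm_num) TC_n_r70_0) (by norm_num) ((fx_ev TC_n_ok.fx _).pow _) (Fx.one _)
  · exact AgreeBits.eq (k := 17) (agree_of_eqB TC_n_ok (by norm_num) TC_n_r71_0) (by norm_num) ((fx_ev TC_n_ok.fx _).pow _) (Fx.one _)
  · exact AgreeBits.eq (k := 17) (agree_of_eqB TC_n_ok (by norm_num) TC_n_r72_0) (by norm_num) ((fx_ev TC_n_ok.fx _).pow _) (Fx.one _)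
  · exact AgreeBits.eq (k := 17) (agree_of_eqB TC_n_ok (by norm_num) TC_n_r73_0) (by norm_num) ((fx_ev TC_n_ok.fx _).pow _) (Fx.one _)
  · exact AgreeBits.eq (k := 17) (agree_of_eqB TC_n_ok (by norm_num) TC_n_r74_0) (by norm_num) ((fx_ev TC_n_ok.fx _).pow _) (Fx.one _)
  · exact AgreeBits.eq (k := 17) (agree_of_eqB TC_n_ok (by norm_num) TC_n_r75_0) (by norm_num) ((fx_ev TC_n_ok.fx _).pow _) (Fx.one _)
  · exact AgreeBits.eq (k := 17) (agree_of_eqB TC_n_ok (by norm_num) TC_n_r76_0) (by norm_num) ((fx_ev TC_n_ok.fx _).pow _) (Fx.one _)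
  · exact AgreeBits.eq (k := 17) (agree_of_eqB TC_n_ok (by norm_num) TC_n_r77_0) (by norm_num) ((fx_ev TC_n_ok.fx _).pow _) (Fx.one _)
  · exact AgreeBits.eq (k := 17) (agree_of_eqB TC_n_ok (by norm_num) TC_n_r78_0) (by norm_num) ((fx_ev TC_n_ok.fx _).pow _) (Fx.one _)
  · exact AgreeBits.eq (k := 17) (agree_of_eqB TC_n_ok (by norm_num) TC_n_r79_0) (by norm_num) ((fx_ev TC_n_ok.fx _).pow _) (Fx.one _)
  · exact AgreeBits.eq (k := 17) (agree_of_eqB TC_n_ok (by norm_num) TC_n_r80_0) (by norm_num) ((fx_ev TC_n_ok.fx _).pow _) (Fx.one _)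
  · exact AgreeBits.eq (k := 17) (agree_of_eqB TC_n_ok (by norm_num) TC_n_r81_0) (by norm_num) ((fx_ev TC_n_ok.fx _).pow _) (Fx.one _)
  · exact AgreeBits.eq (k := 17) (agree_of_eqB TC_n_ok (by norm_num) TC_n_r82_0) (by norm_num) ((fx_ev TC_n_ok.fx _).pow _) (Fx.one _)
  · exact AgreeBits.eq (k := 17) (agree_of_eqB TC_n_ok (by norm_num) TC_n_r83_0) (by norm_num) ((fx_ev TC_n_ok.fx _).pow _) (Fx.one _)
  · exact AgreeBits.eq (k := 17) (agree_of_eqB TC_n_ok (by norm_num) TC_n_r84_0) (by norm_num) ((fx_ev TC_n_ok.fx _).pow _) (Fx.one _)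
  · exact AgreeBits.eq (k := 17) (agree_of_eqB TC_n_ok (by norm_num) TC_n_r85_0) (by norm_num) ((fx_ev TC_n_ok.fx _).pow _) (Fx.one _)
  · exact AgreeBits.eq (k := 17) (agree_of_eqB TC_n_ok (by norm_num) TC_n_r86_0) (by norm_num) ((fx_ev TC_n_ok.fx _).pow _) (Fx.one _)
  · exact AgreeBits.eq (k := 17) (agree_of_eqB TC_n_ok (by norm_num) TC_n_r87_0) (by norm_num) ((fx_ev TC_n_ok.fx _).pow _) (Fx.one _)
  · exact AgreeBits.eq (k := 17) (agree_of_eqB TC_n_ok (by norm_num) TC_n_r88_0) (by norm_num) ((fx_ev TC_n_ok.fx _).pow _) (Fx.one _)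
  · exact AgreeBits.eq (k := 17) (agree_of_eqB TC_n_ok (by norm_num) TC_n_r89_0) (by norm_num) ((fx_ev TC_n_ok.fx _).pow _) (Fx.one _)
  · exact AgreeBits.eq (k := 17) (agree_of_eqB TC_n_ok (by norm_num) TC_n_r90_0) (by norm_num) ((fx_ev TC_n_ok.fx _).pow _) (Fx.one _)
  · exact AgreeBits.eq (k := 17) (agree_of_eqB TC_n_ok (by norm_num) TC_n_r91_0) (by norm_num) ((fx_ev TC_n_ok.fx _).pow _) (Fx.one _)
  · exact AgreeBits.eq (k := 17) (agree_of_eqB TC_n_ok (by norm_num) TC_n_r92_0) (by norm_num) ((fx_ev TC_n_ok.fx _).pow _) (Fx.one _)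
  · exact AgreeBits.eq (k := 17) (agree_of_eqB TC_n_ok (by norm_num) TC_n_r93_0) (by norm_num) ((fx_ev TC_n_ok.fx _).pow _) (Fx.one _)
  · exact AgreeBits.eq (k := 17) (agree_of_eqB TC_n_ok (by norm_num) TC_n_r94_0) (by norm_num) ((fx_ev TC_n_ok.fx _).pow _) (Fx.one _)
  · exact AgreeBits.eq (k := 17) (agree_of_eqB TC_n_ok (by norm_num) TC_n_r95_0) (by norm_num) ((fx_ev TC_n_ok.fx _).pow _) (Fx.one _)
  · exact AgreeBits.eq (k := 17) (agree_of_eqB TC_n_ok (by norm_num) TC_n_r96_0) (by norm_num) ((fx_ev TC_n_ok.fx _).pow _) (Fx.one _)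
  · exact AgreeBits.eq (k := 17) (agree_of_eqB TC_n_ok (by norm_num) TC_n_r97_0) (by norm_num) ((fx_ev TC_n_ok.fx _).pow _) (Fx.one _)
  · exact AgreeBits.eq (k := 17) (agree_of_eqB TC_n_ok (by norm_num) TC_n_r98_0) (by norm_num) ((fx_ev TC_n_ok.fx _).pow _) (Fx.one _)
  · exact AgreeBits.eq (k := 17) (agree_of_eqB TC_n_ok (by norm_num) TC_n_r99_0) (by norm_num) ((fx_ev TC_n_ok.fx _).pow _) (Fx.one _)
  · exact AgreeBits.eq (k := 17) (agree_of_eqB TC_n_ok (by norm_num) TC_n_r100_0) (by norm_num) ((fx_ev TC_n_ok.fx _).pow _) (Fx.one _)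
  · exact AgreeBits.eq (k := 17) (agree_of_eqB TC_n_ok (by norm_num) TC_n_r101_0) (by norm_num) ((fx_ev TC_n_ok.fx _).pow _) (Fx.one _)
  · exact AgreeBits.eq (k := 17) (agree_of_eqB TC_n_ok (by norm_num) TC_n_r102_0) (by norm_num) ((fx_ev TC_n_ok.fx _).pow _) (Fx.one _)
  · exact AgreeBits.eq (k := 17) (agree_of_eqB TC_n_ok (by norm_num) TC_n_r103_0) (by norm_num) ((fx_ev TC_n_ok.fx _).pow _) (Fx.one _)
  · exact AgreeBits.eq (k := 17) (agree_of_eqB TC_n_ok (by norm_num) TC_n_r104_0) (by norm_num) ((fx_ev TC_n_ok.fx _).pow _) (Fx.one _)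
  · exact AgreeBits.eq (k := 17) (agree_of_eqB TC_n_ok (by norm_num) TC_n_r105_0) (by norm_num) ((fx_ev TC_n_ok.fx _).pow _) (Fx.one _)
  · exact AgreeBits.eq (k := 17) (agree_of_eqB TC_n_ok (by norm_num) TC_n_r106_0) (by norm_num) ((fx_ev TC_n_ok.fx _).pow _) (Fx.one _)
  · exact AgreeBits.eq (k := 17) (agree_of_eqB TC_n_ok (by norm_num) TC_n_r107_0) (by norm_num) ((fx_ev TC_n_ok.fx _).pow _) (Fx.one _)
  · exact AgreeBits.eq (k := 17) (agree_of_eqB TC_n_ok (by norm_num) TC_n_r108_0) (by norm_num) ((fx_ev TC_n_ok.fx _).pow _) (Fx.one _)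
  · exact AgreeBits.eq (k := 17) (agree_of_eqB TC_n_ok (by norm_num) TC_n_r109_0) (by norm_num) ((fx_ev TC_n_ok.fx _).pow _) (Fx.one _)
  · exact AgreeBits.eq (k := 17) (agree_of_eqB TC_n_ok (by norm_num) TC_n_r110_0) (by norm_num) ((fx_ev TC_n_ok.fx _).pow _) (Fx.one _)
  · exact AgreeBits.eq (k := 17) (agree_of_eqB TC_n_ok (by norm_num) TC_n_r111_0) (by norm_num) ((fx_ev TC_n_ok.fx _).pow _) (Fx.one _)
  · exact AgreeBits.eq (k := 17) (agree_of_eqB TC_n_ok (by norm_num) TC_n_r112_0) (by norm_num) ((fx_ev TC_n_ok.fx _).pow _) (Fx.one _)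
  · exact AgreeBits.eq (k := 17) (agree_of_eqB TC_n_ok (by norm_num) TC_n_r113_0) (by norm_num) ((fx_ev TC_n_ok.fx _).pow _) (Fx.one _)
  · exact AgreeBits.eq (k := 17) (agree_of_eqB TC_n_ok (by norm_num) TC_n_r114_0) (by norm_num) ((fx_ev TC_n_ok.fx _).pow _) (Fx.one _)
  · exact AgreeBits.eq (k := 17) (agree_of_eqB TC_n_ok (by norm_num) TC_n_r115_0) (by norm_num) ((fx_ev TC_n_ok.fx _).pow _) (Fx.one _)
  · exact AgreeBits.eq (k := 17) (agree_of_eqB TC_n_ok (by norm_num) TC_n_r116_0) (by norm_num) ((fx_ev TC_n_ok.fx _).pow _) (Fx.one _)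
  · exact AgreeBits.eq (k := 17) (agree_of_eqB TC_n_ok (by norm_num) TC_n_r117_0) (by norm_num) ((fx_ev TC_n_ok.fx _).pow _) (Fx.one _)
  · exact AgreeBits.eq (k := 17) (agree_of_eqB TC_n_ok (by norm_num) TC_n_r118_0) (by norm_num) ((fx_ev TC_n_ok.fx _).pow _) (Fx.one _)
  · exact AgreeBits.eq (k := 17) (agree_of_eqB TC_n_ok (by norm_num) TC_n_r119_0) (by norm_num) ((fx_ev TC_n_ok.fx _).pow _) (Fx.one _)
  · exact AgreeBits.eq (k := 17) (agree_of_eqB TC_n_ok (by norm_num) TC_n_r120_0) (by norm_num) ((fx_ev TC_n_ok.fx _).pow _) (Fx.one _)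
  · exact AgreeBits.eq (k := 17) (agree_of_eqB TC_n_ok (by norm_num) TC_n_r121_0) (by norm_num) ((fx_ev TC_n_ok.fx _).pow _) (Fx.one _)
  · exact AgreeBits.eq (k := 17) (agree_of_eqB TC_n_ok (by norm_num) TC_n_r122_0) (by norm_num) ((fx_ev TC_n_ok.fx _).pow _) (Fx.one _)
  · exact AgreeBits.eq (k := 17) (agree_of_eqB TC_n_ok (by norm_num) TC_n_r123_0) (by norm_num) ((fx_ev TC_n_ok.fx _).pow _) (Fx.one _)
  · exact AgreeBits.eq (k := 17) (agree_of_eqB TC_n_ok (by norm_num) TC_n_r124_0) (by norm_num) ((fx_ev TC_n_ok.fx _).pow _) (Fx.one _)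
  · exact AgreeBits.eq (k := 17) (agree_of_eqB TC_n_ok (by norm_num) TC_n_r125_0) (by norm_num) ((fx_ev TC_n_ok.fx _).pow _) (Fx.one _)
  · exact AgreeBits.eq (k := 17) (agree_of_eqB TC_n_ok (by norm_num) TC_n_r126_0) (by norm_num) ((fx_ev TC_n_ok.fx _).pow _) (Fx.one _)
  · exact AgreeBits.eq (k := 17) (agree_of_eqB TC_n_ok (by norm_num) TC_n_r127_0) (by norm_num) ((fx_ev TC_n_ok.fx _).pow _) (Fx.one _)
  · exact AgreeBits.eq (k := 17) (agree_of_eqB TC_n_ok (by norm_num) TC_n_r128_0) (by norm_num) ((fx_ev TC_n_ok.fx _).pow _) (Fx.one _)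
  · exact AgreeBits.eq (k := 17) (agree_of_eqB TC_n_ok (by norm_num) TC_n_r129_0) (by norm_num) ((fx_ev TC_n_ok.fx _).pow _) (Fx.one _)
  · exact AgreeBits.eq (k := 17) (agree_of_eqB TC_n_ok (by norm_num) TC_n_r130_0) (by norm_num) ((fx_ev TC_n_ok.fx _).pow _) (Fx.one _)
  · exact AgreeBits.eq (k := 17) (agree_of_eqB TC_n_ok (by norm_num) TC_n_r131_0) (by norm_num) ((fx_ev TC_n_ok.fx _).pow _) (Fx.one _)
  · exact AgreeBits.eq (k := 17) (agree_of_eqB TC_n_ok (by norm_num) TC_n_r132_0) (by norm_num) ((fx_ev TC_n_ok.fx _).pow _) (Fx.one _)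
  · exact AgreeBits.eq (k := 17) (agree_of_eqB TC_n_ok (by norm_num) TC_n_r133_0) (by norm_num) ((fx_ev TC_n_ok.fx _).pow _) (Fx.one _)
  · exact AgreeBits.eq (k := 17) (agree_of_eqB TC_n_ok (by norm_num) TC_n_r134_0) (by norm_num) ((fx_ev TC_n_ok.fx _).pow _) (Fx.one _)
  · exact AgreeBits.eq (k := 17) (agree_of_eqB TC_n_ok (by norm_num) TC_n_r135_0) (by norm_num) ((fx_ev TC_n_ok.fx _).pow _) (Fx.one _)
  · exact AgreeBits.eq (k := 17) (agree_of_eqB TC_n_ok (by norm_num) TC_n_r136_0) (by norm_num) ((fx_ev TC_n_ok.fx _).pow _) (Fx.one _)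
  · exact AgreeBits.eq (k := 17) (agree_of_eqB TC_n_ok (by norm_num) TC_n_r137_0) (by norm_num) ((fx_ev TC_n_ok.fx _).pow _) (Fx.one _)
  · exact AgreeBits.eq (k := 17) (agree_of_eqB TC_n_ok (by norm_num) TC_n_r138_0) (by norm_num) ((fx_ev TC_n_ok.fx _).pow _) (Fx.one _)
  · exact AgreeBits.eq (k := 17) (agree_of_eqB TC_n_ok (by norm_num) TC_n_r139_0) (by norm_num) ((fx_ev TC_n_ok.fx _).pow _) (Fx.one _)
  · exact AgreeBits.eq (k := 17) (agree_of_eqB TC_n_ok (by norm_num) TC_n_r140_0) (by norm_num) ((fx_ev TC_n_ok.fx _).pow _) (Fx.one _)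
  · exact AgreeBits.eq (k := 17) (agree_of_eqB TC_n_ok (by norm_num) TC_n_r141_0) (by norm_num) ((fx_ev TC_n_ok.fx _).pow _) (Fx.one _)
  · exact AgreeBits.eq (k := 17) (agree_of_eqB TC_n_ok (by norm_num) TC_n_r142_0) (by norm_num) ((fx_ev TC_n_ok.fx _).pow _) (Fx.one _)
  · exact AgreeBits.eq (k := 17) (agree_of_eqB TC_n_ok (by norm_num) TC_n_r143_0) (by norm_num) ((fx_ev TC_n_ok.fx _).pow _) (Fx.one _)
  · exact AgreeBits.eq (k := 17) (agree_of_eqB TC_n_ok (by norm_num) TC_n_r144_0) (by norm_num) ((fx_ev TC_n_ok.fx _).pow _) (Fx.one _)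
  · exact AgreeBits.eq (k := 17) (agree_of_eqB TC_n_ok (by norm_num) TC_n_r145_0) (by norm_num) ((fx_ev TC_n_ok.fx _).pow _) (Fx.one _)
  · exact AgreeBits.eq (k := 17) (agree_of_eqB TC_n_ok (by norm_num) TC_n_r146_0) (by norm_num) ((fx_ev TC_n_ok.fx _).pow _) (Fx.one _)
  · exact AgreeBits.eq (k := 17) (agree_of_eqB TC_n_ok (by norm_num) TC_n_r147_0) (by norm_num) ((fx_ev TC_n_ok.fx _).pow _) (Fx.one _)
  · exact AgreeBits.eq (k := 17) (agree_of_eqB TC_n_ok (by norm_num) TC_n_r148_0) (by norm_num) ((fx_ev TC_n_ok.fx _).pow _) (Fx.one _)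
  · exact AgreeBits.eq (k := 17) (agree_of_eqB TC_n_ok (by norm_num) TC_n_r149_0) (by norm_num) ((fx_ev TC_n_ok.fx _).pow _) (Fx.one _)
  · exact AgreeBits.eq (k := 17) (agree_of_eqB TC_n_ok (by norm_num) TC_n_r150_0) (by norm_num) ((fx_ev TC_n_ok.fx _).pow _) (Fx.one _)
  · exact AgreeBits.eq (k := 17) (agree_of_eqB TC_n_ok (by norm_num) TC_n_r151_0) (by norm_num) ((fx_ev TC_n_ok.fx _).pow _) (Fx.one _)
  · exact AgreeBits.eq (k := 17) (agree_of_eqB TC_n_ok (by norm_num) TC_n_r152_0) (by norm_num) ((fx_ev TC_n_ok.fx _).pow _) (Fx.one _)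
  · exact AgreeBits.eq (k := 17) (agree_of_eqB TC_n_ok (by norm_num) TC_n_r153_0) (by norm_num) ((fx_ev TC_n_ok.fx _).pow _) (Fx.one _)
  · exact AgreeBits.eq (k := 17) (agree_of_eqB TC_n_ok (by norm_num) TC_n_r154_0) (by norm_num) ((fx_ev TC_n_ok.fx _).pow _) (Fx.one _)
  · exact AgreeBits.eq (k := 17) (agree_of_eqB TC_n_ok (by norm_num) TC_n_r155_0) (by norm_num) ((fx_ev TC_n_ok.fx _).pow _) (Fx.one _)
  · exact AgreeBits.eq (k := 17) (agree_of_eqB TC_n_ok (by norm_num) TC_n_r156_0) (by norm_num) ((fx_ev TC_n_ok.fx _).pow _) (Fx.one _)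
  · exact AgreeBits.eq (k := 17) (agree_of_eqB TC_n_ok (by norm_num) TC_n_r157_0) (by norm_num) ((fx_ev TC_n_ok.fx _).pow _) (Fx.one _)
  · exact AgreeBits.eq (k := 17) (agree_of_eqB TC_n_ok (by norm_num) TC_n_r158_0) (by norm_num) ((fx_ev TC_n_ok.fx _).pow _) (Fx.one _)

end Cfsg.Lib.Comp.CoAm
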